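import Cfsg.Agent.TO.X5.Defs
import Cfsg.Agent.TO.X.Fr

/-!
# S4817, exceptional groups, `p = 5` : the canonical section in the coprime case (helper54)
-/

set_option autoImplicit false

namespace Cfsg.Agent.TO.X5S

open Subgroup

namespace Cp

variable {G Y : Type} [Group G] [Finite G] [Group Y] {φ : G →* Y} (hk : φ.ker = center G) {m : ℕ}
  (hc : (Nat.card (center G)).Coprime m)
include hk

omit [Finite G] in
theorem eq_one {z : G} (h : z ∈ center G) : φ z = 1 := by rwa [← hk] at h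

include hc

omit [Finite G] in
theorem uniq {a b : G} (ha : a ^ m = 1) (hb : b ^ m = 1) (h : φ a = φ b) : a = b := by
  have h1 : a⁻¹ * b ∈ center G := hk ▸ MonoidHom.mem_ker.2 (by rw [map_mul, map_inv, h, inv_mul_cancel])
  have h2 : Commute a (a⁻¹ * b) := mem_center_iff.1 h1 a
  have h3 := h2.mul_pow m
  rw [mul_inv_cancel_left, ha, hb, one_mul] at h3
  exact inv_mul_eq_one.1 (orderOf_eq_one_iff.1
    (Nat.eq_one_of_dvd_coprimes hc (orderOf_dvd_natCard _ h1) (orderOf_dvd_of_pow_eq_one h3.symm)))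

theorem ex (w : G) (hw : φ w ^ m = 1) : ∃ g, φ g = φ w ∧ g ^ m = 1 := by
  have h1 : (w ^ m)⁻¹ ∈ center G := inv_mem (hk ▸ MonoidHom.mem_ker.2 (by rw [map_pow, hw]))
  obtain ⟨j, hj⟩ := exists_pow_eq_self_of_coprime (x := (w ^ m)⁻¹) (n := m)
    (hc.symm.coprime_dvd_right (orderOf_dvd_natCard _ h1))
  have h2 := pow_mem h1 j
  have h3 : Commute w ((w ^ m)⁻¹ ^ j) := mem_center_iff.1 h2 w
  refine ⟨w * (w ^ m)⁻¹ ^ j, by rw [map_mul, eq_one hk h2, mul_one], ?_⟩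
  rw [h3.mul_pow, ← pow_mul _ j, mul_comm j, pow_mul _ m j, hj, mul_inv_cancel]

theorem mul_pow {H : Subgroup Y} (hH : ∀ x ∈ H, x ^ m = 1) {a b : G} (ha : φ a ∈ H) (hb : φ b ∈ H) (h1 : a ^ m = 1)
    (h2 : b ^ m = 1) : (a * b) ^ m = 1 := by
  have h3 : ∀ g : H.comap φ, g ^ m ∈ (center G).subgroupOf (H.comap φ) := fun g => by
    rw [mem_subgroupOf, ← hk, MonoidHom.mem_ker, SubmonoidClass.coe_pow, map_pow]
    exact hH _ g.2
  have h4 : (Nat.card ((center G).subgroupOf (H.comap φ))).Coprime ((center G).subgroupOf (H.comap φ)).index := by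
    refine Nat.coprime_of_dvd fun p hp d1 d2 => ?_
    have := Fact.mk hp
    obtain ⟨g, hg⟩ := exists_prime_orderOf_dvd_card' (G := H.comap φ ⧸ (center G).subgroupOf (H.comap φ)) p d2
    obtain ⟨g, rfl⟩ := QuotientGroup.mk_surjective g
    refine hp.one_lt.ne' (Nat.eq_one_of_dvd_coprimes hc (d1.trans (card_comap_dvd_of_injective _ _ (subtype_injective _)))
      (hg ▸ orderOf_dvd_of_pow_eq_one ?_))
    rw [← QuotientGroup.mk_pow, QuotientGroup.eq_one_iff]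
    exact h3 g
  obtain ⟨L, hL⟩ := exists_right_complement'_of_coprime h4
  have h5 : ∀ g ∈ L, (g : G) ^ m = 1 := fun g hg =>
    congrArg Subtype.val (disjoint_def.1 hL.disjoint (h3 g) (pow_mem hg m))
  have h6 : ∀ g : H.comap φ, (g : G) ^ m = 1 → g ∈ L := fun g hg => by
    obtain ⟨⟨z, l⟩, rfl⟩ := hL.2 g
    have h7 : ((z.1 * l.1 : H.comap φ) : G) = l.1 := uniq hk hc hg (h5 _ l.2) (by
      rw [coe_mul, map_mul, eq_one hk (mem_subgroupOf.1 z.2), one_mul])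
    show z.1 * l.1 ∈ L
    rw [Subtype.ext h7]
    exact l.2
  exact h5 _ (mul_mem (h6 ⟨a, ha⟩ h1) (h6 ⟨b, hb⟩ h2))

end Cp

/-- the abstract form -/
theorem sec_of {G S Y : Type} [Group G] [Finite G] [Group S] [Group Y] {σ : G →* S} {ι : S →* Y} {F : MulAut Y}
    (hι : Function.Injective ι) (hs : Function.Surjective σ) (hk : σ.ker = center G) {m : ℕ}
    (hc : (Nat.card (center G)).Coprime m) {P : Subgroup Y} (h : ∀ x ∈ P, F x = x → x ^ m = 1 → ∃ a, ι a = x) :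
    X5.Sec σ ι F P m := by
  have h1 : (ι.comp σ).ker = center G := by
    rw [← hk, ← MonoidHom.comap_ker, (MonoidHom.ker_eq_bot_iff ι).2 hι, MonoidHom.comap_bot]
  have h2 : ∀ x : Y, ∃ g : G, (∃ w, ι (σ w) = x) → x ^ m = 1 → ι (σ g) = x ∧ g ^ m = 1 := fun x => by
    by_cases h3 : (∃ w, ι (σ w) = x) ∧ x ^ m = 1
    · obtain ⟨⟨w, rfl⟩, h4⟩ := h3
      obtain ⟨g, hg⟩ := Cp.ex h1 hc w h4
      exact ⟨g, fun _ _ => hg⟩
    · exact ⟨1, fun h4 h5 => absurd ⟨h4, h5⟩ h3⟩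
  choose s hs' using h2
  have h3 : ∀ x ∈ P, F x = x → x ^ m = 1 → ι (σ (s x)) = x ∧ s x ^ m = 1 := fun x h4 h5 h6 => by
    obtain ⟨a, rfl⟩ := h x h4 h5 h6
    obtain ⟨w, rfl⟩ := hs a
    exact hs' _ ⟨w, rfl⟩ h6
  refine ⟨s, fun x h4 h5 h6 => (h3 x h4 h5 h6).1, fun H hH x hx y hy => ?_, fun α β h4 _ x h5 h6 h7 => ?_⟩
  · have h4 : ∀ z ∈ H, ι (σ (s z)) = z ∧ s z ^ m = 1 := fun z hz => h3 z (hH z hz).1 (hH z hz).2.1 (hH z hz).2.2
    refine Cp.uniq h1 hc (h4 _ (mul_mem hx hy)).2 (Cp.mul_pow h1 hc (fun z hz => (hH z hz).2.2)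
      (show ι (σ (s x)) ∈ H from (h4 x hx).1.symm ▸ hx) (show ι (σ (s y)) ∈ H from (h4 y hy).1.symm ▸ hy)
      (h4 x hx).2 (h4 y hy).2) ?_
    show ι (σ (s (x * y))) = ι (σ (s x * s y))
    rw [map_mul σ, map_mul ι, (h4 x hx).1, (h4 y hy).1, (h4 _ (mul_mem hx hy)).1]
  · obtain ⟨h8, h9⟩ := h3 x h5 h6 h7
    have h10 : ι (σ (α (s x))) = β x := by rw [h4, h8]
    obtain ⟨h11, h12⟩ := hs' (β x) ⟨_, h10⟩ (by rw [← map_pow, h7, map_one])
    exact Cp.uniq h1 hc (by rw [← map_pow, h9, map_one]) h12 (h10.trans h11.symm)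

open Cfsg.Lie Cfsg.Agent.Nodes.RGDChev Cfsg.Agent.ChevalleyStructure.CoxeterGeomTypes Cfsg.Agent.KZ.DatX in
/-- **the coprime case** -/
theorem sec_cop {C : ChevalleyDatum} {l : ℕ} {M : CoxeterMatrix (Fin l)} {hp : IsType C l M} {r : ℕ} [Fact r.Prime]
    {k : Type} [Field k] [CharP k r] [IsAlgClosed k] {Mx : Matrix (Fin l) (Fin l) ℤ} {X : XF hp r k Mx}
    {Adm : Matrix (Fin l) (Fin l) ℤ → Prop} {d : ℕ} {S : Type} [Group S] (s : XS X Adm d S) {G : Type} [Group G]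
    [Finite G] (σ : G →* S) (hs : Function.Surjective σ) (hk : σ.ker = center G) {m : ℕ} (hd : d.Coprime m)
    (hc : (Nat.card (center G)).Coprime m) : X5.Sec σ s.ι X.F ⊤ m :=
  sec_of (TO.X.ι_inj s) hs hk hc fun _ _ h1 h2 => TO.X.exists_ι s h1 h2 hd

end Cfsg.Agent.TO.X5S
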